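import Cfsg.Agent.H38.P4.Nine

/-!
# S5210, `q = 3`: the action of `Aut(Q)` on `Q/Z` (helper38)

`Fr γ r b`, `Fb γ r b` are the coordinates of the image of `(r, b)`.
-/

set_option autoImplicit false

namespace Cfsg.Agent.H38.P4

open Cfsg Cfsg.FusionSystem Cfsg.Agent.H776.P4

universe u

variable {K : Type u} [Field K] [StarRing K]

/-- the element `(r; 0, b, 0)` -/
def mk (r b : K) : PQ K := ⟨⟨r, 0, b, 0, star_zero _, star_zero _⟩, rfl⟩

/-- the element `(0; a, 0, 0)` -/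
def zz (a : K) (ha : star a = a) : PQ K := ⟨⟨0, a, 0, 0, ha, star_zero _⟩, rfl⟩

@[simp] theorem mk_r (r b : K) : ((mk r b : PQ K) : PG K).r = r := rfl
@[simp] theorem mk_b (r b : K) : ((mk r b : PQ K) : PG K).b = b := rfl
@[simp] theorem mk_a (r b : K) : ((mk r b : PQ K) : PG K).a = 0 := rfl
@[simp] theorem zz_r (a : K) (ha : star a = a) : ((zz a ha : PQ K) : PG K).r = 0 := rfl
@[simp] theorem zz_b (a : K) (ha : star a = a) : ((zz a ha : PQ K) : PG K).b = 0 := rfl
@[simp] theorem zz_a (a : K) (ha : star a = a) : ((zz a ha : PQ K) : PG K).a = a := rfl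

theorem q_c (e : PQ K) : (e : PG K).c = 0 := e.2

theorem q_mul_r (e e' : PQ K) : ((e * e' : PQ K) : PG K).r = (e : PG K).r + (e' : PG K).r := rfl

theorem q_mul_b (e e' : PQ K) : ((e * e' : PQ K) : PG K).b = (e : PG K).b + (e' : PG K).b := by
  show ((e : PG K) * (e' : PG K)).b = _
  rw [PG.mul_b, q_c e', mul_zero, add_zero]

theorem q_mul_a (e e' : PQ K) : ((e * e' : PQ K) : PG K).a = (e : PG K).a + (e' : PG K).a +
    (e : PG K).r * star (e' : PG K).b + star (e : PG K).r * (e' : PG K).b := by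
  show ((e : PG K) * (e' : PG K)).a = _
  rw [PG.mul_a, q_c e', mul_zero, add_zero]

theorem q_ext {e e' : PQ K} (hr : (e : PG K).r = (e' : PG K).r) (ha : (e : PG K).a = (e' : PG K).a)
    (hb : (e : PG K).b = (e' : PG K).b) : e = e' :=
  Subtype.ext (PG.ext hr ha hb ((q_c e).trans (q_c e').symm))

/-- the form -/
def fm (r b r' b' : K) : K := r * star b' + star r * b' - r' * star b - star r' * b

theorem star_fm (r b r' b' : K) : star (fm r b r' b') = fm r b r' b' := by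
  unfold fm
  simp only [star_sub, star_add, star_mul', star_star]
  ring

theorem comm_eq (e e' : PQ K) :
    e * e' = zz (fm (e : PG K).r (e : PG K).b (e' : PG K).r (e' : PG K).b) (star_fm _ _ _ _) * (e' * e) := by
  apply q_ext
  · rw [q_mul_r, q_mul_r, q_mul_r, zz_r]; ring
  · rw [q_mul_a, q_mul_a, q_mul_a, zz_r, zz_a, star_zero]
    unfold fm
    ring
  · rw [q_mul_b, q_mul_b, q_mul_b, zz_b]; ring

theorem zz_inj {a a' : K} {ha : star a = a} {ha' : star a' = a'} (h : zz a ha = zz a' ha') : a = a' := by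
  have := congrArg (fun e : PQ K => (e : PG K).a) h
  exact this

theorem commute_iff (e e' : PQ K) :
    e * e' = e' * e ↔ fm (e : PG K).r (e : PG K).b (e' : PG K).r (e' : PG K).b = 0 := by
  rw [comm_eq e e']
  constructor
  · intro h
    have h1 : zz (fm (e : PG K).r (e : PG K).b (e' : PG K).r (e' : PG K).b) (star_fm _ _ _ _) = zz 0 (star_zero K) := by
      have h2 := mul_eq_right.1 h
      rw [h2]
      exact q_ext rfl rfl rfl
    exact zz_inj h1
  · intro h
    apply mul_eq_right.2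
    apply q_ext
    · rfl
    · exact h
    · rfl

theorem mul_star_eq_zero {r : K} (h : r * star r = 0) : r = 0 := by
  rcases mul_eq_zero.1 h with h | h
  · exact h
  · rwa [star_eq_zero] at h

/-- the centre -/
theorem central_iff (h3 : (3 : K) = 0) (e : PQ K) :
    (∀ e', e * e' = e' * e) ↔ (e : PG K).r = 0 ∧ (e : PG K).b = 0 := by
  constructor
  · intro h
    have h1 := (commute_iff _ _).1 (h (mk 0 (e : PG K).r))
    have h2 := (commute_iff _ _).1 (h (mk (e : PG K).b 0))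
    unfold fm at h1 h2
    simp only [mk_r, mk_b, star_zero, mul_zero, zero_mul, add_zero, sub_zero, zero_add, zero_sub] at h1 h2
    constructor
    · apply mul_star_eq_zero
      linear_combination -h1 + (e : PG K).r * star (e : PG K).r * h3
    · apply mul_star_eq_zero
      linear_combination h2 + (e : PG K).b * star (e : PG K).b * h3
  · rintro ⟨h1, h2⟩ e'
    rw [commute_iff]
    unfold fm
    rw [h1, h2, star_zero]
    ring

/-- first coordinate of the action -/
def Fr (γ : MulAut (PQ K)) (r b : K) : K := ((γ (mk r b) : PQ K) : PG K).r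

/-- second coordinate of the action -/
def Fb (γ : MulAut (PQ K)) (r b : K) : K := ((γ (mk r b) : PQ K) : PG K).b

theorem central_map (h3 : (3 : K) = 0) (γ : MulAut (PQ K)) {e : PQ K} (h : (e : PG K).r = 0 ∧ (e : PG K).b = 0) :
    ((γ e : PQ K) : PG K).r = 0 ∧ ((γ e : PQ K) : PG K).b = 0 := by
  rw [← central_iff h3] at h ⊢
  intro e'
  obtain ⟨e'', rfl⟩ := γ.surjective e'
  rw [← map_mul, h, map_mul]

theorem eq_mk_mul (e : PQ K) : e = mk (e : PG K).r (e : PG K).b * zz (e : PG K).a (e : PG K).ha := by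
  apply q_ext
  · rw [q_mul_r, mk_r, zz_r, add_zero]
  · rw [q_mul_a, mk_a, zz_a, zz_b, star_zero, mul_zero, mul_zero, zero_add, add_zero, add_zero]
  · rw [q_mul_b, mk_b, zz_b, add_zero]

theorem act_r (h3 : (3 : K) = 0) (γ : MulAut (PQ K)) (e : PQ K) :
    ((γ e : PQ K) : PG K).r = Fr γ (e : PG K).r (e : PG K).b := by
  have h := central_map h3 γ (e := zz (e : PG K).a (e : PG K).ha) ⟨rfl, rfl⟩
  conv_lhs => rw [eq_mk_mul e]
  rw [map_mul, q_mul_r, h.1, add_zero]
  rfl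

theorem act_b (h3 : (3 : K) = 0) (γ : MulAut (PQ K)) (e : PQ K) :
    ((γ e : PQ K) : PG K).b = Fb γ (e : PG K).r (e : PG K).b := by
  have h := central_map h3 γ (e := zz (e : PG K).a (e : PG K).ha) ⟨rfl, rfl⟩
  conv_lhs => rw [eq_mk_mul e]
  rw [map_mul, q_mul_b, h.2, add_zero]
  rfl

theorem Fr_add (h3 : (3 : K) = 0) (γ : MulAut (PQ K)) (r b r' b' : K) :
    Fr γ (r + r') (b + b') = Fr γ r b + Fr γ r' b' := by
  have h := act_r h3 γ (mk r b * mk r' b')
  rw [map_mul, q_mul_r, q_mul_r, q_mul_b] at h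
  exact h.symm

theorem Fb_add (h3 : (3 : K) = 0) (γ : MulAut (PQ K)) (r b r' b' : K) :
    Fb γ (r + r') (b + b') = Fb γ r b + Fb γ r' b' := by
  have h := act_b h3 γ (mk r b * mk r' b')
  rw [map_mul, q_mul_b, q_mul_r, q_mul_b] at h
  exact h.symm

theorem Fr_mul (h3 : (3 : K) = 0) (γ δ : MulAut (PQ K)) (r b : K) :
    Fr (γ * δ) r b = Fr γ (Fr δ r b) (Fb δ r b) := act_r h3 γ (δ (mk r b))

theorem Fb_mul (h3 : (3 : K) = 0) (γ δ : MulAut (PQ K)) (r b : K) :
    Fb (γ * δ) r b = Fb γ (Fr δ r b) (Fb δ r b) := act_b h3 γ (δ (mk r b))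

theorem Fr_one (r b : K) : Fr (1 : MulAut (PQ K)) r b = r := rfl
theorem Fb_one (r b : K) : Fb (1 : MulAut (PQ K)) r b = b := rfl

theorem F_inv_mul (h3 : (3 : K) = 0) (γ : MulAut (PQ K)) (r b : K) :
    Fr γ⁻¹ (Fr γ r b) (Fb γ r b) = r ∧ Fb γ⁻¹ (Fr γ r b) (Fb γ r b) = b := by
  rw [← Fr_mul h3, ← Fb_mul h3, inv_mul_cancel]
  exact ⟨rfl, rfl⟩

theorem F_mul_inv (h3 : (3 : K) = 0) (γ : MulAut (PQ K)) (r b : K) :
    Fr γ (Fr γ⁻¹ r b) (Fb γ⁻¹ r b) = r ∧ Fb γ (Fr γ⁻¹ r b) (Fb γ⁻¹ r b) = b := by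
  rw [← Fr_mul h3, ← Fb_mul h3, mul_inv_cancel]
  exact ⟨rfl, rfl⟩

theorem Fr_zero (h3 : (3 : K) = 0) (γ : MulAut (PQ K)) : Fr γ 0 0 = 0 := by
  have := Fr_add h3 γ 0 0 0 0
  rw [add_zero] at this
  exact left_eq_add.1 this

theorem Fb_zero (h3 : (3 : K) = 0) (γ : MulAut (PQ K)) : Fb γ 0 0 = 0 := by
  have := Fb_add h3 γ 0 0 0 0
  rw [add_zero] at this
  exact left_eq_add.1 this

theorem Fr_neg (h3 : (3 : K) = 0) (γ : MulAut (PQ K)) (r b : K) : Fr γ (-r) (-b) = -Fr γ r b := by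
  have := Fr_add h3 γ r b (-r) (-b)
  rw [add_neg_cancel, add_neg_cancel, Fr_zero h3] at this
  linear_combination -this

theorem Fb_neg (h3 : (3 : K) = 0) (γ : MulAut (PQ K)) (r b : K) : Fb γ (-r) (-b) = -Fb γ r b := by
  have := Fb_add h3 γ r b (-r) (-b)
  rw [add_neg_cancel, add_neg_cancel, Fb_zero h3] at this
  linear_combination -this

/-- `γ` multiplies the form by `χ` -/
def Mult (γ : MulAut (PQ K)) (χ : K) : Prop :=
  ∀ r b r' b', fm (Fr γ r b) (Fb γ r b) (Fr γ r' b') (Fb γ r' b') = χ * fm r b r' b'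

theorem exists_mult (h : N9 K) (γ : MulAut (PQ K)) : ∃ χ : K, (χ = 1 ∨ χ = -1) ∧ Mult γ χ := by
  have h3 := h.three
  have hz : ∀ (a : K) (ha : star a = a), ∃ (a' : K) (ha' : star a' = a'), γ (zz a ha) = zz a' ha' := by
    intro a ha
    have h1 := central_map h3 γ (e := zz a ha) ⟨rfl, rfl⟩
    exact ⟨_, ((γ (zz a ha) : PQ K) : PG K).ha, q_ext h1.1 rfl h1.2⟩
  obtain ⟨χ, hχ, h1⟩ := hz 1 (star_one K)
  have hzero : ∀ ha : star (0 : K) = 0, (zz (0 : K) ha) = 1 := fun _ => q_ext rfl rfl rfl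
  have hχ1 : χ = 1 ∨ χ = -1 := by
    rcases fixed h hχ with h0 | h0
    · exfalso
      subst h0
      rw [hzero, map_eq_one_iff γ γ.injective] at h1
      have h2 : (1 : K) = 0 := congrArg (fun e : PQ K => (e : PG K).a) h1
      exact one_ne_zero h2
    · exact h0
  have hall : ∀ (a : K) (ha : star a = a), ((γ (zz a ha) : PQ K) : PG K).a = χ * a := by
    intro a ha
    rcases fixed h ha with h0 | h0 | h0
    · subst h0
      rw [hzero, map_one, mul_zero]
      rfl
    · subst h0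
      rw [h1, mul_one]
      rfl
    · subst h0
      have h4 : zz (-1 : K) ha = (zz 1 (star_one K))⁻¹ := by
        rw [eq_inv_iff_mul_eq_one]
        apply q_ext
        · rw [q_mul_r]; simp
        · rw [q_mul_a]; simp
        · rw [q_mul_b]; simp
      rw [h4, map_inv, h1]
      have h5 : (zz χ hχ)⁻¹ = zz (χ * -1) (by rw [star_mul', star_neg, star_one, hχ]) := by
        rw [inv_eq_iff_mul_eq_one]
        apply q_ext
        · rw [q_mul_r]; simp
        · rw [q_mul_a]; simp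
        · rw [q_mul_b]; simp
      rw [h5]
      rfl
  refine ⟨χ, hχ1, fun r b r' b' => ?_⟩
  have h6 := congrArg γ (comm_eq (mk r b) (mk r' b'))
  rw [map_mul, map_mul, map_mul, comm_eq (γ (mk r b)) (γ (mk r' b'))] at h6
  have h7 := mul_right_cancel h6
  have h8 := congrArg (fun e : PQ K => (e : PG K).a) h7
  have h9 : fm (Fr γ r b) (Fb γ r b) (Fr γ r' b') (Fb γ r' b') =
      ((γ (zz (fm r b r' b') (star_fm _ _ _ _)) : PQ K) : PG K).a := h8
  rw [h9, hall]

theorem Mult.mul (h3 : (3 : K) = 0) {γ δ : MulAut (PQ K)} {χ χ' : K} (h : Mult γ χ) (h' : Mult δ χ') :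
    Mult (γ * δ) (χ * χ') := by
  intro r b r' b'
  rw [Fr_mul h3, Fb_mul h3, Fr_mul h3, Fb_mul h3, h, h', mul_assoc]

theorem Mult.inv (h3 : (3 : K) = 0) {γ : MulAut (PQ K)} {χ : K} (hχ : χ = 1 ∨ χ = -1) (h : Mult γ χ) :
    Mult γ⁻¹ χ := by
  intro r b r' b'
  have h1 := h (Fr γ⁻¹ r b) (Fb γ⁻¹ r b) (Fr γ⁻¹ r' b') (Fb γ⁻¹ r' b')
  rw [(F_mul_inv h3 γ r b).1, (F_mul_inv h3 γ r b).2, (F_mul_inv h3 γ r' b').1, (F_mul_inv h3 γ r' b').2] at h1
  have h2 : χ * χ = 1 := by rcases hχ with rfl | rfl <;> ring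
  rw [h1, ← mul_assoc, h2, one_mul]

/-! ### automorphisms acting trivially on `Q/Z` -/

theorem inner_of_triv (h : N9 K) {γ : MulAut (PQ K)} (hr : ∀ r b, Fr γ r b = r) (hb : ∀ r b, Fb γ r b = b) :
    ∃ g : PQ K, ∀ e : PQ K, γ e = g * e * g⁻¹ := by
  have h3 := h.three
  have hr' : ∀ e : PQ K, ((γ e : PQ K) : PG K).r = (e : PG K).r := fun e => by rw [act_r h3, hr]
  have hb' : ∀ e : PQ K, ((γ e : PQ K) : PG K).b = (e : PG K).b := fun e => by rw [act_b h3, hb]
  -- the difference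
  set d : PQ K → K := fun e => ((γ e : PQ K) : PG K).a - (e : PG K).a with hd
  have hdm : ∀ e e', d (e * e') = d e + d e' := by
    intro e e'
    rw [hd]
    simp only
    rw [map_mul, q_mul_a, q_mul_a, hr', hb']
    ring
  have hds : ∀ e, star (d e) = d e := by
    intro e
    rw [hd]
    simp only
    rw [star_sub, ((γ e : PQ K) : PG K).ha, (e : PG K).ha]
  have hcomm : ∀ e e' : PQ K, d (zz (fm (e : PG K).r (e : PG K).b (e' : PG K).r (e' : PG K).b) (star_fm _ _ _ _)) = 0 := by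
    intro e e'
    have h1 := hdm e e'
    rw [comm_eq e e', hdm, hdm] at h1
    linear_combination h1
  have hz : ∀ (a : K) (ha : star a = a), d (zz a ha) = 0 := by
    intro a ha
    have h1 := hcomm (mk 1 0) (mk 0 (-a))
    have h2 : zz (fm ((mk (1 : K) 0 : PQ K) : PG K).r ((mk (1 : K) 0 : PQ K) : PG K).b ((mk 0 (-a) : PQ K) : PG K).r
        ((mk 0 (-a) : PQ K) : PG K).b) (star_fm _ _ _ _) = zz a ha := by
      apply q_ext
      · rfl
      · show fm 1 0 0 (-a) = a
        unfold fm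
        rw [star_neg, ha, star_one, star_zero]
        linear_combination -a * h3
      · rfl
    rwa [h2] at h1
  have hdmk : ∀ e : PQ K, d e = d (mk (e : PG K).r 0) + d (mk 0 (e : PG K).b) := by
    intro e
    have h1 : mk (e : PG K).r (e : PG K).b = mk 0 (e : PG K).b * mk (e : PG K).r 0 := by
      apply q_ext
      · rw [q_mul_r]; simp
      · rw [q_mul_a]; simp
      · rw [q_mul_b]; simp
    conv_lhs => rw [eq_mk_mul e, hdm, hz, add_zero, h1, hdm]
    ring
  obtain ⟨α, hα⟩ := additive_fixed h (φ := fun r => d (mk r 0)) (fun x y => by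
    rw [← hdm]
    congr 1
    apply q_ext
    · rw [q_mul_r]; simp
    · rw [q_mul_a]; simp
    · rw [q_mul_b]; simp) (fun x => hds _)
  obtain ⟨β, hβ⟩ := additive_fixed h (φ := fun b => d (mk 0 b)) (fun x y => by
    rw [← hdm]
    congr 1
    apply q_ext
    · rw [q_mul_r]; simp
    · rw [q_mul_a]; simp
    · rw [q_mul_b]; simp) (fun x => hds _)
  refine ⟨mk (star β) (-star α), fun e => ?_⟩
  rw [eq_mul_inv_iff_mul_eq]
  apply q_ext
  · rw [q_mul_r, q_mul_r, hr']; ring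
  · have h1 : ((γ e : PQ K) : PG K).a = (e : PG K).a + d e := by rw [hd]; ring
    rw [q_mul_a, q_mul_a, hr', h1, hdmk, mk_r, mk_b, mk_a]
    have h2 : d (mk (e : PG K).r 0) = _ := hα (e : PG K).r
    have h4 : d (mk 0 (e : PG K).b) = _ := hβ (e : PG K).b
    rw [h2, h4, star_neg, star_star, star_star]
    ring
  · rw [q_mul_b, q_mul_b, hb']; ring

end Cfsg.Agent.H38.P4
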