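import Cfsg.Agent.H776.P4.Stmts

/-!
# S5210, `q = 3`: the field with nine elements (helper38)
-/

set_option autoImplicit false

namespace Cfsg.Agent.H38.P4

open Cfsg Cfsg.Agent.H776.P4

universe u

/-- the field with nine elements and its involution -/
structure N9 (K : Type u) [Field K] [StarRing K] : Prop where
  fin : Finite K
  three : (3 : K) = 0
  st : ∀ x : K, star x = x ^ 3
  ex : ∃ i : K, i * i = -1

theorem N9.of_hyp {K : Type u} [Field K] [StarRing K] {p n : ℕ} (h : Cfsg.Agent.H756.PU.HypK K p n)
    (hq : p ^ n = 3) : N9 K := by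
  have hp3 : p = 3 := by
    have h1 : p ∣ 3 := by
      rw [← hq]
      exact dvd_pow_self p (by have := h.hn; omega)
    rcases (Nat.dvd_prime Nat.prime_three).1 h1 with h2 | h2
    · exact absurd h2 h.pp.one_lt.ne'
    · exact h2
  have := h.fin
  have hc := h.char
  rw [hp3] at hc
  refine ⟨h.fin, ?_, ?_, ?_⟩
  · exact_mod_cast (CharP.cast_eq_zero K 3)
  · intro x
    rw [h.star_eq, hq]
  · have : Fintype K := Fintype.ofFinite K
    have h1 : Fintype.card K = 9 := by
      rw [← Nat.card_eq_fintype_card, h.card, hq]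
      norm_num
    obtain ⟨i, hi⟩ := (FiniteField.isSquare_neg_one_iff (F := K)).2 (by rw [h1]; norm_num)
    exact ⟨i, hi.symm⟩

variable {K : Type u} [Field K] [StarRing K]

theorem star_I (h : N9 K) {i : K} (hi : i * i = -1) : star i = -i := by
  rw [h.st]
  linear_combination i * hi

theorem fixed (h : N9 K) {x : K} (hx : star x = x) : x = 0 ∨ x = 1 ∨ x = -1 := by
  rw [h.st] at hx
  have h1 : x * ((x - 1) * (x + 1)) = 0 := by linear_combination hx
  rcases mul_eq_zero.1 h1 with h2 | h2
  · exact Or.inl h2
  · rcases mul_eq_zero.1 h2 with h3 | h3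
    · exact Or.inr (Or.inl (sub_eq_zero.1 h3))
    · exact Or.inr (Or.inr (eq_neg_of_add_eq_zero_left h3))

theorem dec (h : N9 K) {i : K} (hi : i * i = -1) (x : K) : ∃ u v : K, star u = u ∧ star v = v ∧ x = u + v * i := by
  have h3 := h.three
  have hs := star_I h hi
  refine ⟨-(x + star x), i * (x - star x), ?_, ?_, ?_⟩
  · rw [star_neg, star_add, star_star]; ring
  · rw [star_mul', star_sub, star_star, hs]; ring
  · linear_combination x * h3 - (x - star x) * hi

/-- additive maps of the field with nine elements -/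
theorem additive (h : N9 K) {φ : K → K} (hφ : ∀ x y, φ (x + y) = φ x + φ y) : ∃ α β : K, ∀ x, φ x = α * x + β * star x := by
  obtain ⟨i, hi⟩ := h.ex
  have h3 := h.three
  have hs := star_I h hi
  have h0 : φ 0 = 0 := by
    have := hφ 0 0
    rw [add_zero] at this
    exact left_eq_add.1 this
  have hneg : ∀ x, φ (-x) = -φ x := by
    intro x
    have := hφ x (-x)
    rw [add_neg_cancel, h0] at this
    linear_combination -this
  refine ⟨i * φ i - φ 1, -φ 1 - i * φ i, fun x => ?_⟩
  obtain ⟨u, v, hu, hv, rfl⟩ := dec h hi x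
  have e1 : φ u = (i * φ i - φ 1) * u + (-φ 1 - i * φ i) * star u := by
    rw [hu]
    rcases fixed h hu with rfl | rfl | rfl
    · rw [h0]; ring
    · linear_combination φ 1 * h3
    · rw [hneg]; linear_combination -φ 1 * h3
  have e2 : φ (v * i) = (i * φ i - φ 1) * (v * i) + (-φ 1 - i * φ i) * star (v * i) := by
    rw [star_mul', hv, hs]
    rcases fixed h hv with rfl | rfl | rfl
    · rw [zero_mul, h0]; ring
    · rw [one_mul]; linear_combination φ i * h3 - 2 * φ i * hi
    · rw [neg_one_mul, hneg]; linear_combination -φ i * h3 + 2 * φ i * hi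
  rw [hφ, e1, e2, star_add]
  ring

/-- additive maps into the fixed field -/
theorem additive_fixed (h : N9 K) {φ : K → K} (hφ : ∀ x y, φ (x + y) = φ x + φ y) (hf : ∀ x, star (φ x) = φ x) :
    ∃ α : K, ∀ x, φ x = α * x + star α * star x := by
  obtain ⟨α, β, hab⟩ := additive h hφ
  obtain ⟨i, hi⟩ := h.ex
  have h3 := h.three
  have hs := star_I h hi
  have h1 := hf 1
  have h2 := hf i
  rw [hab, star_add, star_mul', star_mul', star_star, star_one, mul_one, mul_one] at h1
  rw [hab, star_add, star_mul', star_mul', star_star, hs] at h2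
  have h4 : star α = β := by
    have h5 : i * (2 * (star α - β)) = 0 := by linear_combination i * h1 - h2
    have hi0 : i ≠ 0 := by
      rintro rfl
      rw [zero_mul, zero_eq_neg] at hi
      exact one_ne_zero hi
    have h6 := (mul_eq_zero.1 h5).resolve_left hi0
    linear_combination -h6 + (star α - β) * h3
  exact ⟨α, fun x => by rw [hab, h4]⟩

end Cfsg.Agent.H38.P4
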