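import Cfsg.Agent.H38.P4.Par

/-!
# S5210, `q = 3`: the elements `W_κ` (helper38)
-/

set_option autoImplicit false

namespace Cfsg.Agent.H38.P4

open Cfsg Cfsg.FusionSystem Cfsg.Agent.H776.P4
open Cfsg.Agent.H756.PU (NormAut TIAut)

universe u

variable {K : Type u} [Field K] [StarRing K]

/-- restriction to `Q` -/
theorem exists_res {α : MulAut (PG K)} (hα : ∀ g : PG K, (α g).c = 0 ↔ g.c = 0) : ∃ γ : MulAut (PQ K), IsRP α γ := by
  have h1 : (PQ K).map α.toMonoidHom = PQ K := by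
    ext g
    constructor
    · rintro ⟨e, he, rfl⟩
      exact (hα e).2 he
    · intro hg
      refine ⟨α.symm g, ?_, α.apply_symm_apply g⟩
      have h2 : (α (α.symm g)).c = 0 := by
        rw [α.apply_symm_apply]
        exact hg
      exact (hα _).1 h2
  exact ⟨(α.subgroupMap (PQ K)).trans (MulEquiv.subgroupCongr h1), fun e => rfl⟩

theorem tor_res {α : MulAut (PG K)} {s l : K} {τ : K ≃+* K} (h : IsTorP α s l τ) : ∃ γ : MulAut (PQ K), IsRP α γ :=
  exists_res fun g => by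
    rw [h.c]
    constructor
    · intro h1
      rcases mul_eq_zero.1 h1 with h2 | h2
      · exact absurd h2 h.nl
      · exact (map_eq_zero_iff τ τ.injective).1 h2
    · intro h1
      rw [h1, map_zero, mul_zero]

theorem tor_F {α : MulAut (PG K)} {s l : K} {τ : K ≃+* K} (h : IsTorP α s l τ) {γ : MulAut (PQ K)} (hγ : IsRP α γ)
    (r b : K) : Fr γ r b = s * τ r ∧ Fb γ r b = s * l * τ b := by
  unfold Fr Fb
  rw [hγ, h.r, h.b]
  exact ⟨rfl, rfl⟩

theorem ep_res {κ : K} {ε : MulAut (PG K)} (h : IsEp κ ε) : ∃ t : MulAut (PQ K), IsRP ε t :=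
  exists_res fun g => by rw [h.c]

theorem ep_F {κ : K} {ε : MulAut (PG K)} (h : IsEp κ ε) {t : MulAut (PQ K)} (ht : IsRP ε t) (r b : K) :
    Fr t r b = r ∧ Fb t r b = b + κ * star r := by
  unfold Fr Fb
  rw [ht, h.r, h.b]
  exact ⟨rfl, rfl⟩

theorem wq_F {n : MulAut (PQ K)} (h : IsWQ n) (r b : K) : Fr n r b = b ∧ Fb n r b = -r := by
  unfold Fr Fb
  rw [h.r, h.b]
  exact ⟨rfl, rfl⟩

theorem wk_F (h3 : (3 : K) = 0) {κ : K} {γ : MulAut (PQ K)} (h : IsWk κ γ) (r b : K) :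
    Fr γ r b = b - κ * star r ∧ Fb γ r b = -r + κ * star (b - κ * star r) := by
  obtain ⟨ε, n, t, h1, h2, h4, rfl⟩ := h
  have h5 : Fr t⁻¹ r b = r ∧ Fb t⁻¹ r b = b - κ * star r := by
    have h6 := F_mul_inv h3 t r b
    rw [(ep_F h1 h4 _ _).1, (ep_F h1 h4 _ _).2] at h6
    refine ⟨h6.1, ?_⟩
    have h7 := h6.2
    rw [h6.1] at h7
    exact eq_sub_of_add_eq h7
  rw [Fr_mul h3, Fr_mul h3, Fb_mul h3, Fb_mul h3, (ep_F h1 h4 _ _).1, (ep_F h1 h4 _ _).2, (wq_F h2 _ _).1,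
    (wq_F h2 _ _).2, h5.1, h5.2]
  exact ⟨rfl, rfl⟩

/-- inverse of an element with square `-1` -/
theorem inv_of_sq (h3 : (3 : K) = 0) {J : MulAut (PQ K)}
    (hJJ : ∀ r b, Fr J (Fr J r b) (Fb J r b) = -r ∧ Fb J (Fr J r b) (Fb J r b) = -b) (r b : K) :
    Fr J⁻¹ r b = -Fr J r b ∧ Fb J⁻¹ r b = -Fb J r b := by
  have h1 := F_inv_mul h3 J (-Fr J r b) (-Fb J r b)
  rw [Fr_neg h3, Fb_neg h3, (hJJ r b).1, (hJJ r b).2, neg_neg, neg_neg] at h1
  exact h1

theorem wk_sq (h3 : (3 : K) = 0) {κ : K} {γ : MulAut (PQ K)} (h : IsWk κ γ) (r b : K) :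
    Fr γ (Fr γ r b) (Fb γ r b) = -r ∧ Fb γ (Fr γ r b) (Fb γ r b) = -b := by
  have h1 : Fr γ (Fr γ r b) (Fb γ r b) = -r := by
    rw [(wk_F h3 h _ _).1, (wk_F h3 h r b).1, (wk_F h3 h r b).2]
    ring
  refine ⟨h1, ?_⟩
  rw [(wk_F h3 h (Fr γ r b) _).2, ← (wk_F h3 h (Fr γ r b) (Fb γ r b)).1, h1, (wk_F h3 h r b).1, star_neg]
  ring

/-- the elements with square `-1` and multiplier `-1` -/
theorem main_J (h : N9 K) {Γ : Subgroup (MulAut (PQ K))} (hWk : ∀ κ : K, ∃ γ : MulAut (PQ K), IsWk κ γ)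
    (hΓ : AS K ≤ Γ)
    (hsyl : ∀ P : Subgroup (MulAut (PQ K)), P ≤ Γ → IsPGroup 3 P → ∃ g ∈ Γ, ∀ x ∈ P, g * x * g⁻¹ ∈ AS K)
    {J : MulAut (PQ K)} (hJ : J ∈ Γ) (hM : Mult J (-1))
    (hJJ : ∀ r b, Fr J (Fr J r b) (Fb J r b) = -r ∧ Fb J (Fr J r b) (Fb J r b) = -b) :
    ∃ l ∈ LamP (Pt Γ), ∃ ν ∈ Γ, NormAut (⊤ : Subgroup (PG K)) ν ∧ J = l * ν := by
  have h3 := h.three
  obtain ⟨i, hi⟩ := h.ex
  have hs := star_I h hi
  obtain ⟨α, β, hφ'⟩ := additive h (φ := fun b => Fr J 0 b) (fun x y => by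
    have := Fr_add h3 J 0 x 0 y
    rwa [add_zero] at this)
  have hφ : ∀ b, Fr J 0 b = α * b + β * star b := hφ'
  have hsym : ∀ b b', Fr J 0 b * star b' + star (Fr J 0 b) * b' +
      (Fr J 0 b' * star b + star (Fr J 0 b') * b) = 0 := by
    intro b b'
    have h1 := hM 0 b (Fr J 0 b') (Fb J 0 b')
    rw [(hJJ 0 b').1, (hJJ 0 b').2] at h1
    unfold fm at h1
    rw [star_neg, neg_zero, star_zero] at h1
    linear_combination -h1
  have e1 := hsym 1 1
  have e2 := hsym i i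
  have e3 := hsym 1 i
  rw [hφ, star_add, star_mul', star_mul', star_star, star_one] at e1
  rw [hφ, star_add, star_mul', star_mul', star_star, hs] at e2
  rw [hφ, hφ, star_add, star_mul', star_mul', star_star, star_add, star_mul', star_mul', star_star, hs, star_one] at e3
  have hα : α + star α = 0 := by
    linear_combination e1 + e2 - (α + star α) * h3 + 2 * ((α + star α) - (β + star β)) * hi
  have hβ : β + star β = 0 := by
    linear_combination e1 - e2 - (β + star β) * h3 + 2 * ((β + star β) - (α + star α)) * hi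
  have hβ0 : β = 0 := by
    linear_combination i * e3 + 2 * (β - star β) * hi + 2 * hβ - β * h3
  subst hβ0
  have hφ2 : ∀ b, Fr J 0 b = α * b := fun b => by rw [hφ, zero_mul, add_zero]
  have hcase : α = 0 ∨ α * α = -1 := by
    obtain ⟨u, v, hu, hv, hα'⟩ := dec h hi α
    rw [hα', star_add, star_mul', hu, hv, hs] at hα
    have hu0 : u = 0 := by linear_combination -hα + u * h3
    rw [hu0, zero_add] at hα'
    rcases fixed h hv with hv0 | hv0 | hv0
    · left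
      rw [hα', hv0, zero_mul]
    · right
      rw [hα', hv0]
      linear_combination hi
    · right
      rw [hα', hv0]
      linear_combination hi
  rcases hcase with hα0 | hαα
  · refine ⟨1, one_mem _, J, hJ, normAut_of h hΓ hsyl hJ (fun b => ?_), (one_mul J).symm⟩
    rw [hφ2, hα0, zero_mul]
  -- the transversal case
  have hsα : star α = -α := by linear_combination hα
  obtain ⟨c0, κ, hω'⟩ := additive h (φ := fun r => Fb J 0 (-(α * r))) (fun x y => by
    have := Fb_add h3 J 0 (-(α * x)) 0 (-(α * y))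
    rw [add_zero] at this
    show Fb J 0 (-(α * (x + y))) = _
    rw [← this]
    congr 1
    ring)
  have hω : ∀ r, Fb J 0 (-(α * r)) = c0 * r + κ * star r := hω'
  have hψ : ∀ b, Fb J 0 b = c0 * (α * b) + κ * star (α * b) := by
    intro b
    rw [← hω]
    congr 1
    linear_combination b * hαα
  have hc0 : star c0 = c0 := by
    have h1 := hM 0 (-(α * i)) 0 (-(α * 1))
    rw [hω, hω, hφ2, hφ2] at h1
    have h2 : α * -(α * i) = i := by linear_combination -i * hαα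
    have h4 : α * -(α * 1) = 1 := by linear_combination -hαα
    rw [h2, h4] at h1
    unfold fm at h1
    rw [star_add, star_add, star_mul', star_mul', star_mul', star_mul', star_star, star_star, star_one, star_zero,
      hs] at h1
    linear_combination i * h1 - 2 * (star c0 - c0) * hi + (star c0 - c0) * h3
  -- the action of `J`
  have hJr : ∀ r b, Fr J r b = α * (b - (c0 * r + κ * star r)) := by
    intro r b
    have h1 := (hJJ 0 (-(α * r))).1
    rw [hφ2, hω] at h1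
    have h2 : α * -(α * r) = r := by linear_combination -r * hαα
    rw [h2] at h1
    have h4 := Fr_add h3 J r (c0 * r + κ * star r) 0 (b - (c0 * r + κ * star r))
    rw [add_zero, add_sub_cancel, h1, hφ2] at h4
    rw [h4]
    ring
  have hJi := inv_of_sq h3 hJJ
  obtain ⟨x, hx, hxF⟩ := exists_x (K := K) (-1) (by rw [star_neg, star_one])
  obtain ⟨x', hx', hxF'⟩ := exists_x (K := K) 1 (star_one K)
  obtain ⟨X, hX, hXF⟩ := exists_x c0 hc0
  obtain ⟨X', hX', hXF'⟩ := exists_x (-c0) (by rw [star_neg, hc0])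
  have hy : ∀ r b, Fr (J * x * J⁻¹) r b = r + (b - (c0 * r + κ * star r)) ∧
      Fb (J * x * J⁻¹) r b = b + (c0 * (b - (c0 * r + κ * star r)) + κ * star (b - (c0 * r + κ * star r))) := by
    intro r b
    have h1 := F_mul_inv h3 J r b
    have h2 : α * Fr J⁻¹ r b = b - (c0 * r + κ * star r) := by
      rw [(hJi r b).1, hJr]
      linear_combination -(b - (c0 * r + κ * star r)) * hαα
    rw [Fr_mul h3, Fr_mul h3, Fb_mul h3, Fb_mul h3, (hxF _ _).1, (hxF _ _).2]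
    have h4 : Fb J⁻¹ r b - Fr J⁻¹ r b * -1 = Fb J⁻¹ r b + Fr J⁻¹ r b := by ring
    rw [h4]
    have h5 := Fr_add h3 J (Fr J⁻¹ r b) (Fb J⁻¹ r b) 0 (Fr J⁻¹ r b)
    have h6 := Fb_add h3 J (Fr J⁻¹ r b) (Fb J⁻¹ r b) 0 (Fr J⁻¹ r b)
    rw [add_zero, h1.1, hφ2, h2] at h5
    rw [add_zero, h1.2, hψ, h2] at h6
    exact ⟨h5, h6⟩
  have hyΓ : J * x * J⁻¹ ∈ Γ := Γ.mul_mem (Γ.mul_mem hJ (hΓ hx)) (Γ.inv_mem hJ)
  generalize J * x * J⁻¹ = y at hy hyΓ
  obtain ⟨W, hW⟩ := hWk κ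
  have hWF := wk_F h3 hW
  have hwΓ : X * (y * x' * y) * X' ∈ Γ :=
    Γ.mul_mem (Γ.mul_mem (hΓ hX) (Γ.mul_mem (Γ.mul_mem hyΓ (hΓ hx')) hyΓ)) (hΓ hX')
  have hWΓ : W ∈ Γ := by
    refine mem_of_same h hΓ hwΓ (fun r b => ?_) (fun r b => ?_)
    · simp only [Fr_mul h3, Fb_mul h3, hXF, hXF', hxF', hy, hWF]
      simp only [star_add, star_sub, star_mul', star_star, star_neg, star_one, hc0]
      ring
    · simp only [Fr_mul h3, Fb_mul h3, hXF, hXF', hxF', hy, hWF]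
      simp only [star_add, star_sub, star_mul', star_star, star_neg, star_one, hc0]
      ring
  have hκ : κ ∈ Pt Γ := ⟨W, hWΓ, hW⟩
  have hνΓ : W⁻¹ * (X * J) ∈ Γ := Γ.mul_mem (Γ.inv_mem hWΓ) (Γ.mul_mem (hΓ hX) hJ)
  refine ⟨X⁻¹ * W, mul_mem (inv_mem ((le_sup_left : AS K ≤ _) hX))
    ((le_sup_right : Subgroup.closure _ ≤ _) (Subgroup.subset_closure ⟨κ, hκ, hW⟩)), W⁻¹ * (X * J), hνΓ,
    normAut_of h hΓ hsyl hνΓ (fun b => ?_), by group⟩
  have h1 := (F_inv_mul h3 W 0 (α * b)).1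
  rw [(hWF _ _).1, (hWF _ _).2, star_zero, mul_zero, sub_zero, neg_zero, zero_add] at h1
  rw [Fr_mul h3, Fr_mul h3, Fb_mul h3, (hXF _ _).1, (hXF _ _).2, hφ2, hψ]
  have h2 : c0 * (α * b) + κ * star (α * b) - α * b * c0 = κ * star (α * b) := by ring
  rw [h2]
  exact h1

/-- conjugation of `W_κ` by a torus element -/
theorem mem_conj_iff (h : N9 K) {H : Subgroup (MulAut (PQ K))} (hH : AS K ≤ H) {d : MulAut (PG K)} {s l : K}
    {τ : K ≃+* K} (hd : IsTorP d s l τ) {δ : MulAut (PQ K)} (hδ : IsRP d δ) {κ : K} {W W' : MulAut (PQ K)}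
    (hW : IsWk κ W) (hW' : IsWk (actK s l τ κ) W') : δ * W * δ⁻¹ ∈ H ↔ W' ∈ H := by
  have h3 := h.three
  have hl : l = 1 ∨ l = -1 := (fixed h hd.sl).resolve_left hd.nl
  have hll : l * l = 1 := by rcases hl with h1 | h1 <;> rw [h1] <;> ring
  have hss : star s ≠ 0 := by
    intro h1
    rw [star_eq_zero] at h1
    exact hd.ns h1
  have key : ∀ r b, Fr δ (Fr W r b) (Fb W r b) = l * Fr W' (Fr δ r b) (Fb δ r b) ∧
      Fb δ (Fr W r b) (Fb W r b) = l * Fb W' (Fr δ r b) (Fb δ r b) := by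
    intro r b
    have h5 : ∀ z, star (s * τ z) = star s * τ (star z) := fun z => by rw [star_mul', hd.tst]
    have h6 : ∀ z : K, l * s * (star s)⁻¹ * τ κ * (star s * z) = l * s * τ κ * z := by
      intro z
      field_simp
    have h7 := wk_F h3 hW r b
    have h8 := wk_F h3 hW' (Fr δ r b) (Fb δ r b)
    have h9 : Fr δ (Fr W r b) (Fb W r b) = l * Fr W' (Fr δ r b) (Fb δ r b) := by
      rw [(tor_F hd hδ _ _).1, h7.1, h8.1, (tor_F hd hδ r b).1, (tor_F hd hδ r b).2]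
      unfold actK
      rw [h5, h6, map_sub, map_mul]
      linear_combination (-s * τ b + s * (τ κ * τ (star r))) * hll
    refine ⟨h9, ?_⟩
    have h10 : Fb W' (Fr δ r b) (Fb δ r b) = -(s * τ r) + actK s l τ κ * star (Fr W' (Fr δ r b) (Fb δ r b)) := by
      rw [h8.2, h8.1, (tor_F hd hδ r b).1]
    have h11 : Fr W' (Fr δ r b) (Fb δ r b) = l * (s * τ (Fr W r b)) := by
      rw [(tor_F hd hδ (Fr W r b) (Fb W r b)).1] at h9
      linear_combination l * (-h9) - Fr W' (Fr δ r b) (Fb δ r b) * hll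
    rw [h10, h11, star_mul', hd.sl, h5, (tor_F hd hδ _ _).2]
    have h12 : Fb W r b = -r + κ * star (Fr W r b) := by rw [h7.2, h7.1]
    rw [h12, map_add, map_neg, map_mul]
    unfold actK
    have h13 : l * s * (star s)⁻¹ * τ κ * (l * (star s * τ (star (Fr W r b)))) = s * τ κ * τ (star (Fr W r b)) := by
      have h14 := h6 (l * τ (star (Fr W r b)))
      linear_combination h14 + s * τ κ * τ (star (Fr W r b)) * hll
    rw [h13]
    ring
  have key2 : ∀ r b, Fr (δ * W * δ⁻¹) r b = l * Fr W' r b ∧ Fb (δ * W * δ⁻¹) r b = l * Fb W' r b := by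
    intro r b
    have h1 := key (Fr δ⁻¹ r b) (Fb δ⁻¹ r b)
    rw [(F_mul_inv h3 δ r b).1, (F_mul_inv h3 δ r b).2] at h1
    rw [Fr_mul h3, Fr_mul h3, Fb_mul h3, Fb_mul h3]
    exact h1
  rcases hl with rfl | rfl
  · have h1 : ∀ r b, Fr (δ * W * δ⁻¹) r b = Fr W' r b := fun r b => by rw [(key2 r b).1, one_mul]
    have h2 : ∀ r b, Fb (δ * W * δ⁻¹) r b = Fb W' r b := fun r b => by rw [(key2 r b).2, one_mul]
    exact ⟨fun h4 => mem_of_same h hH h4 (fun r b => (h1 r b).symm) (fun r b => (h2 r b).symm),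
      fun h4 => mem_of_same h hH h4 h1 h2⟩
  · have hi := inv_of_sq h3 (wk_sq h3 hW')
    have h1 : ∀ r b, Fr (δ * W * δ⁻¹) r b = Fr W'⁻¹ r b := fun r b => by rw [(key2 r b).1, (hi r b).1, neg_one_mul]
    have h2 : ∀ r b, Fb (δ * W * δ⁻¹) r b = Fb W'⁻¹ r b := fun r b => by rw [(key2 r b).2, (hi r b).2, neg_one_mul]
    exact ⟨fun h4 => inv_mem_iff.1 (mem_of_same h hH h4 (fun r b => (h1 r b).symm) (fun r b => (h2 r b).symm)),
      fun h4 => mem_of_same h hH (H.inv_mem h4) h1 h2⟩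

end Cfsg.Agent.H38.P4
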